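import Mathlib
import Groth.Prelude.Def_W4c5quivmodgenus0Quiv

/-!
Reduction of the point quiver representations at two marked indices `a`, `b`.
-/

universe u v

open PtQuiv

namespace PtQuivRed

variable {K : Type u} [Field K] {κ : Type v} [Fintype κ] [DecidableEq κ] {a b : κ}
  {s : κ → (Fin 2 → K)} {θ : κ → ℚ}

abbrev Rest (a b : κ) := {i : κ // i ≠ a ∧ i ≠ b}

/-- The inequalities which both sides reduce to. -/
def Cond (a b : κ) (θ : κ → ℚ) (t : Rest a b → (Fin 2 → K)) : Prop :=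
  (∀ J : Finset (Rest a b), (∀ i ∈ J, t i = 0) → ∑ i ∈ J, θ i.1 ≤ 0) ∧
  (∀ J : Finset (Rest a b), (∀ i ∈ J, t i 1 = 0) → θ a + ∑ i ∈ J, θ i.1 ≤ 1) ∧
  (∀ J : Finset (Rest a b), (∀ i ∈ J, t i 0 = 0) → θ b + ∑ i ∈ J, θ i.1 ≤ 1)

/-- The strict versions. -/
def CondS (a b : κ) (θ : κ → ℚ) (t : Rest a b → (Fin 2 → K)) : Prop :=
  (∀ J : Finset (Rest a b), (∀ i ∈ J, t i = 0) → ∑ i ∈ J, θ i.1 = 0 → J = ∅) ∧
  (∀ J : Finset (Rest a b), (∀ i ∈ J, t i 1 = 0) → θ a + ∑ i ∈ J, θ i.1 ≠ 1) ∧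
  (∀ J : Finset (Rest a b), (∀ i ∈ J, t i 0 = 0) → θ b + ∑ i ∈ J, θ i.1 ≠ 1) ∧
  (∀ J : Finset (Rest a b), ∑ i ∈ J, θ i.1 = 2 - θ a - θ b → J = Finset.univ)

theorem sum_split (hab : a ≠ b) (I : Finset κ) :
    ∑ i ∈ I, θ i = (if a ∈ I then θ a else 0) + (if b ∈ I then θ b else 0) +
      ∑ i ∈ I.subtype (fun i => i ≠ a ∧ i ≠ b), θ i.1 := by
  rw [Finset.sum_subtype_eq_sum_filter (f := θ), ← Finset.sum_filter_add_sum_filter_not I (fun i => i ≠ a ∧ i ≠ b)]
  have h : I.filter (fun i => ¬(i ≠ a ∧ i ≠ b)) = ({a, b} : Finset κ).filter (fun i => i ∈ I) := by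
    ext i; simp only [Finset.mem_filter, Finset.mem_insert, Finset.mem_singleton]; tauto
  rw [h, Finset.sum_filter (s := ({a, b} : Finset κ)) (p := fun i => i ∈ I), Finset.sum_pair hab]
  ring

theorem sum_rest (hab : a ≠ b) (h2 : ∑ i, θ i = 2) : ∑ i : Rest a b, θ i.1 = 2 - θ a - θ b := by
  have h := sum_split (θ := θ) hab Finset.univ
  rw [h2] at h
  simp only [Finset.mem_univ, if_true, Finset.subtype_univ] at h
  linarith

theorem sum_le_rest (hab : a ≠ b) (h0 : ∀ i, 0 ≤ θ i) (h2 : ∑ i, θ i = 2) (J : Finset (Rest a b)) :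
    ∑ i ∈ J, θ i.1 ≤ 2 - θ a - θ b :=
  (Finset.sum_le_univ_sum_of_nonneg (fun i => h0 _)).trans (sum_rest hab h2).le

theorem pwt_eq (hc : 2 - θ a - θ b ≠ 0) (U : Fin 2 → Submodule K K) (J : Finset (Rest a b)) :
    (2 - θ a - θ b) * PWt K ![(2 - θ a - θ b)⁻¹ * (θ a - 1), (2 - θ a - θ b)⁻¹ * (θ b - 1)]
      (fun i : Rest a b => (2 - θ a - θ b)⁻¹ * θ i.1) U J =
      (θ a - 1) * (Module.finrank K (U 0) : ℚ) + (θ b - 1) * (Module.finrank K (U 1) : ℚ) + ∑ i ∈ J, θ i.1 := by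
  rw [PWt, Fin.sum_univ_two, ← Finset.mul_sum]
  simp only [Matrix.cons_val_zero, Matrix.cons_val_one]
  field_simp

theorem fr_bot : (Module.finrank K (⊥ : Submodule K K) : ℚ) = 0 := by rw [finrank_bot]; simp

theorem fr_top : (Module.finrank K (⊤ : Submodule K K) : ℚ) = 1 := by rw [finrank_top, Module.finrank_self]; simp

theorem fr0 (U : Submodule K K) (h : U = ⊥) : (Module.finrank K U : ℚ) = 0 := by subst h; exact fr_bot

theorem fr1 (U : Submodule K K) (h : U = ⊤) : (Module.finrank K U : ℚ) = 1 := by subst h; exact fr_top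

theorem bot_or_top (U : Submodule K K) : U = ⊥ ∨ U = ⊤ := Ideal.eq_bot_or_top U

theorem psemistable_iff (hab : a ≠ b) (h0 : ∀ i, 0 ≤ θ i) (h2 : ∑ i, θ i = 2) (hθ' : θ a + θ b < 2)
    (t : Rest a b → (Fin 2 → K)) :
    PSemistable ![(2 - θ a - θ b)⁻¹ * (θ a - 1), (2 - θ a - θ b)⁻¹ * (θ b - 1)]
      (fun i : Rest a b => (2 - θ a - θ b)⁻¹ * θ i.1) t ↔ Cond a b θ t := by
  have hc : (0 : ℚ) < 2 - θ a - θ b := by linarith
  have key : ∀ U J, PWt K ![(2 - θ a - θ b)⁻¹ * (θ a - 1), (2 - θ a - θ b)⁻¹ * (θ b - 1)]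
      (fun i : Rest a b => (2 - θ a - θ b)⁻¹ * θ i.1) U J ≤ 0 ↔
      (θ a - 1) * (Module.finrank K (U 0) : ℚ) + (θ b - 1) * (Module.finrank K (U 1) : ℚ) + ∑ i ∈ J, θ i.1 ≤ 0 := by
    intro U J
    rw [← pwt_eq hc.ne' U J]
    exact ⟨fun h => mul_nonpos_of_nonneg_of_nonpos hc.le h, fun h => nonpos_of_mul_nonpos_right h hc⟩
  constructor
  · rintro ⟨-, h⟩
    refine ⟨fun J hJ => ?_, fun J hJ => ?_, fun J hJ => ?_⟩
    · have := (key ![⊥, ⊥] J).mp (h _ J (fun i hi j => by fin_cases j <;> simp [hJ i hi]))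
      rw [fr0 ((![⊥, ⊥] : Fin 2 → Submodule K K) 0) rfl, fr0 ((![⊥, ⊥] : Fin 2 → Submodule K K) 1) rfl] at this; linarith
    · have := (key ![⊤, ⊥] J).mp (h _ J (fun i hi j => by fin_cases j <;> simp [hJ i hi]))
      rw [fr1 ((![⊤, ⊥] : Fin 2 → Submodule K K) 0) rfl, fr0 ((![⊤, ⊥] : Fin 2 → Submodule K K) 1) rfl] at this; linarith
    · have := (key ![⊥, ⊤] J).mp (h _ J (fun i hi j => by fin_cases j <;> simp [hJ i hi]))
      rw [fr0 ((![⊥, ⊤] : Fin 2 → Submodule K K) 0) rfl, fr1 ((![⊥, ⊤] : Fin 2 → Submodule K K) 1) rfl] at this; linarith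
  · rintro ⟨c0, c1, c2⟩
    refine ⟨?_, fun U J hJ => (key U J).mpr ?_⟩
    · rw [Fin.sum_univ_two, ← Finset.mul_sum, sum_rest hab h2]
      simp only [Matrix.cons_val_zero, Matrix.cons_val_one]
      field_simp; ring
    · rcases bot_or_top (U 0) with e | e <;> rcases bot_or_top (U 1) with e' | e' <;>
        first
          | rw [fr0 _ e, fr0 _ e']
          | rw [fr0 _ e, fr1 _ e']
          | rw [fr1 _ e, fr0 _ e']
          | rw [fr1 _ e, fr1 _ e']
      · have := c0 J fun i hi => funext fun j => by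
          fin_cases j
          · simpa [e] using hJ i hi 0
          · simpa [e'] using hJ i hi 1
        linarith
      · have := c2 J fun i hi => by simpa [e] using hJ i hi 0
        linarith
      · have := c1 J fun i hi => by simpa [e'] using hJ i hi 1
        linarith
      · have := sum_le_rest hab h0 h2 J
        linarith

theorem pstable_iff (hab : a ≠ b) (h0 : ∀ i, 0 ≤ θ i) (h2 : ∑ i, θ i = 2) (hθ' : θ a + θ b < 2)
    (t : Rest a b → (Fin 2 → K)) :
    PStable ![(2 - θ a - θ b)⁻¹ * (θ a - 1), (2 - θ a - θ b)⁻¹ * (θ b - 1)]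
      (fun i : Rest a b => (2 - θ a - θ b)⁻¹ * θ i.1) t ↔ Cond a b θ t ∧ CondS a b θ t := by
  have hc : (0 : ℚ) < 2 - θ a - θ b := by linarith
  have key : ∀ U J, PWt K ![(2 - θ a - θ b)⁻¹ * (θ a - 1), (2 - θ a - θ b)⁻¹ * (θ b - 1)]
      (fun i : Rest a b => (2 - θ a - θ b)⁻¹ * θ i.1) U J = 0 ↔
      (θ a - 1) * (Module.finrank K (U 0) : ℚ) + (θ b - 1) * (Module.finrank K (U 1) : ℚ) + ∑ i ∈ J, θ i.1 = 0 := by
    intro U J
    rw [← pwt_eq hc.ne' U J, mul_eq_zero, or_iff_right hc.ne']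
  have hne : (⊤ : Submodule K K) ≠ ⊥ := top_ne_bot
  rw [PStable, psemistable_iff hab h0 h2 hθ' t]
  refine and_congr_right fun hC => ⟨fun h => ⟨fun J hJ e => ?_, fun J hJ e => ?_, fun J hJ e => ?_, fun J e => ?_⟩, ?_⟩
  · rcases h ![⊥, ⊥] J (fun i hi j => by fin_cases j <;> simp [hJ i hi]) ((key _ J).mpr (by rw [fr0 ((![⊥, ⊥] : Fin 2 → Submodule K K) 0) rfl, fr0 ((![⊥, ⊥] : Fin 2 → Submodule K K) 1) rfl]; linarith)) with ⟨-, h⟩ | ⟨h, -⟩
    · exact h
    · exact absurd (congrFun h 0).symm hne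
  · rcases h ![⊤, ⊥] J (fun i hi j => by fin_cases j <;> simp [hJ i hi]) ((key _ J).mpr (by rw [fr1 ((![⊤, ⊥] : Fin 2 → Submodule K K) 0) rfl, fr0 ((![⊤, ⊥] : Fin 2 → Submodule K K) 1) rfl]; linarith)) with ⟨h, -⟩ | ⟨h, -⟩
    · exact hne (congrFun h 0)
    · exact hne (congrFun h 1).symm
  · rcases h ![⊥, ⊤] J (fun i hi j => by fin_cases j <;> simp [hJ i hi]) ((key _ J).mpr (by rw [fr0 ((![⊥, ⊤] : Fin 2 → Submodule K K) 0) rfl, fr1 ((![⊥, ⊤] : Fin 2 → Submodule K K) 1) rfl]; linarith)) with ⟨h, -⟩ | ⟨h, -⟩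
    · exact hne (congrFun h 1)
    · exact hne (congrFun h 0).symm
  · rcases h ![⊤, ⊤] J (fun i hi j => by fin_cases j <;> simp) ((key _ J).mpr (by rw [fr1 ((![⊤, ⊤] : Fin 2 → Submodule K K) 0) rfl, fr1 ((![⊤, ⊤] : Fin 2 → Submodule K K) 1) rfl]; linarith)) with ⟨h, -⟩ | ⟨-, h⟩
    · exact absurd (congrFun h 0) hne
    · exact h
  · rintro ⟨d0, d1, d2, d3⟩ U J hJ e
    rw [key] at e
    rcases bot_or_top (U 0) with u0 | u0 <;> rcases bot_or_top (U 1) with u1 | u1 <;>
      first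
        | rw [fr0 _ u0, fr0 _ u1] at e
        | rw [fr0 _ u0, fr1 _ u1] at e
        | rw [fr1 _ u0, fr0 _ u1] at e
        | rw [fr1 _ u0, fr1 _ u1] at e
    · refine Or.inl ⟨funext fun j => by fin_cases j <;> assumption, d0 J (fun i hi => funext fun j => ?_) (by linarith)⟩
      fin_cases j
      · simpa [u0] using hJ i hi 0
      · simpa [u1] using hJ i hi 1
    · exact absurd (by linarith) (d2 J fun i hi => by simpa [u0] using hJ i hi 0)
    · exact absurd (by linarith) (d1 J fun i hi => by simpa [u1] using hJ i hi 1)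
    · exact Or.inr ⟨funext fun j => by fin_cases j <;> assumption, d3 J (by linarith)⟩

theorem coord_eq (hind : LinearIndependent K ![s a, s b]) (x y x' y' : K)
    (h : x • s a + y • s b = x' • s a + y' • s b) : x = x' ∧ y = y' :=
  hind.eq_of_pair h

theorem exists_coord (hind : LinearIndependent K ![s a, s b]) :
    ∃ t : Rest a b → (Fin 2 → K), ∀ i, s i.1 = t i 0 • s a + t i 1 • s b := by
  have hsp : Submodule.span K (Set.range ![s a, s b]) = ⊤ :=
    hind.span_eq_top_of_card_eq_finrank (by simp)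
  have : ∀ i : Rest a b, ∃ c : Fin 2 → K, ∑ j, c j • ![s a, s b] j = s i.1 := fun i =>
    (Submodule.mem_span_range_iff_exists_fun K).mp (hsp ▸ Submodule.mem_top)
  choose c hc using this
  exact ⟨c, fun i => by rw [← hc i, Fin.sum_univ_two]; simp⟩

theorem indep_of_qsemistable (hab : a ≠ b) (hθ : 1 < θ a + θ b) (h : QSemistable (-1) θ s) :
    LinearIndependent K ![s a, s b] := by
  by_contra hc
  let L : Submodule K (Fin 2 → K) := Submodule.span K (Set.range ![s a, s b])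
  have hL : Module.finrank K L ≤ 1 := by
    have h1 : Module.finrank K L ≤ 2 := (finrank_range_le_card (R := K) ![s a, s b]).trans (by simp)
    rcases (Nat.lt_or_eq_of_le h1) with h' | h'
    · omega
    · exact absurd (linearIndependent_iff_card_eq_finrank_span.mpr (by simpa [Set.finrank] using h'.symm)) hc
  have h' := h.2 L {a, b} (fun i hi => by
    simp only [Finset.mem_insert, Finset.mem_singleton] at hi
    rcases hi with rfl | rfl
    · exact Submodule.subset_span ⟨0, rfl⟩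
    · exact Submodule.subset_span ⟨1, rfl⟩)
  rw [QWt, Finset.sum_pair hab] at h'
  have : (Module.finrank K L : ℚ) ≤ 1 := by exact_mod_cast hL
  linarith

/-- The subrepresentation of the plane coming from a set of remaining indices. -/
theorem qcond_of_qsemistable (hab : a ≠ b) (hind : LinearIndependent K ![s a, s b])
    (t : Rest a b → (Fin 2 → K)) (ht : ∀ i, s i.1 = t i 0 • s a + t i 1 • s b)
    (P : ℚ → Prop)
    (h : ∀ (L : Submodule K (Fin 2 → K)) (I : Finset κ), QSubrep s L I → (L ≠ ⊤) → (L ≠ ⊥ ∨ I.Nonempty) →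
      P (QWt K (-1) θ L I)) :
    (∀ J : Finset (Rest a b), (∀ i ∈ J, t i = 0) → J.Nonempty → P (∑ i ∈ J, θ i.1)) ∧
    (∀ J : Finset (Rest a b), (∀ i ∈ J, t i 1 = 0) → P (θ a + ∑ i ∈ J, θ i.1 - 1)) ∧
    (∀ J : Finset (Rest a b), (∀ i ∈ J, t i 0 = 0) → P (θ b + ∑ i ∈ J, θ i.1 - 1)) := by
  have e0 : s a ≠ 0 := hind.ne_zero 0
  have e1 : s b ≠ 0 := hind.ne_zero 1
  have hnt : ∀ v : Fin 2 → K, v ≠ 0 → K ∙ v ≠ ⊤ := fun v hv e => by
    have := congrArg (fun W : Submodule K (Fin 2 → K) => Module.finrank K W) e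
    simp [finrank_span_singleton hv] at this
  refine ⟨fun J hJ hne => ?_, fun J hJ => ?_, fun J hJ => ?_⟩
  · have := h ⊥ (J.map (Function.Embedding.subtype _)) (fun i hi => by
      obtain ⟨j, hj, rfl⟩ := Finset.mem_map.mp hi
      simp [ht j, hJ j hj]) bot_ne_top (Or.inr (hne.map))
    simpa [QWt, Finset.sum_map] using this
  · have := h (K ∙ s a) (insert a (J.map (Function.Embedding.subtype _))) (fun i hi => by
      rcases Finset.mem_insert.mp hi with rfl | hi
      · exact Submodule.mem_span_singleton_self _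
      · obtain ⟨j, hj, rfl⟩ := Finset.mem_map.mp hi
        refine Submodule.mem_span_singleton.mpr ⟨t j 0, ?_⟩
        simp [ht j, hJ j hj]) (hnt _ e0) (Or.inl (by simp [e0]))
    rw [QWt, Finset.sum_insert (by simp), Finset.sum_map, finrank_span_singleton e0] at this
    convert this using 2
    push_cast; simp; ring
  · have := h (K ∙ s b) (insert b (J.map (Function.Embedding.subtype _))) (fun i hi => by
      rcases Finset.mem_insert.mp hi with rfl | hi
      · exact Submodule.mem_span_singleton_self _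
      · obtain ⟨j, hj, rfl⟩ := Finset.mem_map.mp hi
        refine Submodule.mem_span_singleton.mpr ⟨t j 1, ?_⟩
        simp [ht j, hJ j hj]) (hnt _ e1) (Or.inl (by simp [e1]))
    rw [QWt, Finset.sum_insert (by simp), Finset.sum_map, finrank_span_singleton e1] at this
    convert this using 2
    push_cast; simp; ring

/-- Every subrepresentation is one of: zero subspace, plane, line at `a`, line at `b`, other line. -/
theorem qsubrep_cases (hab : a ≠ b) (hind : LinearIndependent K ![s a, s b])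
    (t : Rest a b → (Fin 2 → K)) (ht : ∀ i, s i.1 = t i 0 • s a + t i 1 • s b)
    (L : Submodule K (Fin 2 → K)) (I : Finset κ) (hI : QSubrep s L I) :
    let J := I.subtype (fun i => i ≠ a ∧ i ≠ b)
    (L = ⊥ ∧ a ∉ I ∧ b ∉ I ∧ (∀ i ∈ J, t i = 0) ∧ QWt K (-1) θ L I = ∑ i ∈ J, θ i.1) ∨
    (L = ⊤ ∧ QWt K (-1) θ L I = -2 + ∑ i ∈ I, θ i) ∨
    ((∀ i ∈ J, t i 1 = 0) ∧ QWt K (-1) θ L I = θ a + ∑ i ∈ J, θ i.1 - 1) ∨
    ((∀ i ∈ J, t i 0 = 0) ∧ QWt K (-1) θ L I = θ b + ∑ i ∈ J, θ i.1 - 1) ∨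
    (QWt K (-1) θ L I = ∑ i ∈ J, θ i.1 - 1) := by
  intro J
  have e0 : s a ≠ 0 := hind.ne_zero 0
  have e1 : s b ≠ 0 := hind.ne_zero 1
  have hle : Module.finrank K L ≤ 2 := by simpa using Submodule.finrank_le L
  rcases (by omega : Module.finrank K L = 0 ∨ Module.finrank K L = 1 ∨ Module.finrank K L = 2) with e | e | e
  · have hL : L = ⊥ := Submodule.finrank_eq_zero.mp e
    have ha : a ∉ I := fun h => e0 (by simpa [hL, QSubrep] using hI a h)
    have hb : b ∉ I := fun h => e1 (by simpa [hL, QSubrep] using hI b h)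
    refine Or.inl ⟨hL, ha, hb, fun i hi => ?_, ?_⟩
    · have h1 := hI i.1 (Finset.mem_subtype.mp hi)
      rw [hL, Submodule.mem_bot, ht i] at h1
      obtain ⟨x, y⟩ := coord_eq hind (t i 0) (t i 1) 0 0 (by simpa using h1)
      funext j; fin_cases j <;> assumption
    · rw [QWt, e, sum_split hab I]; simp [ha, hb, J]
  · by_cases ha : a ∈ I
    · have hL : K ∙ s a = L := Submodule.eq_of_le_of_finrank_eq
        ((Submodule.span_singleton_le_iff_mem _ _).mpr (hI a ha)) (by rw [finrank_span_singleton e0, e])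
      have hb : b ∉ I := fun h => by
        obtain ⟨c, hc⟩ := Submodule.mem_span_singleton.mp (hL ▸ hI b h)
        have := coord_eq hind c 0 0 1 (by simp [hc])
        exact zero_ne_one this.2
      refine Or.inr (Or.inr (Or.inl ⟨fun i hi => ?_, ?_⟩))
      · obtain ⟨c, hc⟩ := Submodule.mem_span_singleton.mp (hL ▸ hI i.1 (Finset.mem_subtype.mp hi))
        exact (coord_eq hind c 0 (t i 0) (t i 1) (by rw [← ht i, ← hc]; simp)).2.symm
      · rw [QWt, e, sum_split hab I]; simp [ha, hb, J]; ring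
    · by_cases hb : b ∈ I
      · have hL : K ∙ s b = L := Submodule.eq_of_le_of_finrank_eq
          ((Submodule.span_singleton_le_iff_mem _ _).mpr (hI b hb)) (by rw [finrank_span_singleton e1, e])
        refine Or.inr (Or.inr (Or.inr (Or.inl ⟨fun i hi => ?_, ?_⟩)))
        · obtain ⟨c, hc⟩ := Submodule.mem_span_singleton.mp (hL ▸ hI i.1 (Finset.mem_subtype.mp hi))
          exact (coord_eq hind 0 c (t i 0) (t i 1) (by rw [← ht i, ← hc]; simp)).1.symm
        · rw [QWt, e, sum_split hab I]; simp [ha, hb, J]; ring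
      · refine Or.inr (Or.inr (Or.inr (Or.inr ?_)))
        rw [QWt, e, sum_split hab I]; simp [ha, hb, J]; ring
  · refine Or.inr (Or.inl ⟨Submodule.eq_top_of_finrank_eq (by simp [e]), ?_⟩)
    rw [QWt, e]; push_cast; ring

theorem qsemistable_iff_cond (hab : a ≠ b) (h0 : ∀ i, 0 ≤ θ i) (h2 : ∑ i, θ i = 2)
    (hθ : 1 < θ a + θ b) (hind : LinearIndependent K ![s a, s b])
    (t : Rest a b → (Fin 2 → K)) (ht : ∀ i, s i.1 = t i 0 • s a + t i 1 • s b) :
    QSemistable (-1) θ s ↔ Cond a b θ t := by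
  constructor
  · rintro ⟨-, h⟩
    obtain ⟨c0, c1, c2⟩ := qcond_of_qsemistable hab hind t ht (fun q => q ≤ 0) (fun L I hI _ _ => h L I hI)
    refine ⟨fun J hJ => ?_, fun J hJ => by linarith [c1 J hJ], fun J hJ => by linarith [c2 J hJ]⟩
    rcases J.eq_empty_or_nonempty with rfl | hne
    · simp
    · exact c0 J hJ hne
  · rintro ⟨c0, c1, c2⟩
    refine ⟨by rw [h2]; ring, fun L I hI => ?_⟩
    rcases qsubrep_cases (θ := θ) hab hind t ht L I hI with ⟨-, -, -, hJ, e⟩ | ⟨-, e⟩ | ⟨hJ, e⟩ | ⟨hJ, e⟩ | e <;> rw [e]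
    · exact c0 _ hJ
    · have : ∑ i ∈ I, θ i ≤ ∑ i, θ i := Finset.sum_le_univ_sum_of_nonneg h0
      linarith
    · linarith [c1 _ hJ]
    · linarith [c2 _ hJ]
    · linarith [sum_le_rest hab h0 h2 (I.subtype fun i => i ≠ a ∧ i ≠ b)]

theorem qstable_iff_cond (hab : a ≠ b) (h0 : ∀ i, 0 ≤ θ i) (h1 : ∀ i, θ i ≤ 1) (h2 : ∑ i, θ i = 2)
    (hθ : 1 < θ a + θ b) (hind : LinearIndependent K ![s a, s b])
    (t : Rest a b → (Fin 2 → K)) (ht : ∀ i, s i.1 = t i 0 • s a + t i 1 • s b) :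
    QStable (-1) θ s ↔ Cond a b θ t ∧ CondS a b θ t := by
  rw [QStable, qsemistable_iff_cond hab h0 h2 hθ hind t ht]
  refine and_congr_right fun hC => ⟨fun h => ?_, ?_⟩
  · obtain ⟨c0, c1, c2⟩ := qcond_of_qsemistable (θ := θ) hab hind t ht (fun q => q ≠ 0) (fun L I hI hL hne e => by
      rcases h L I hI e with ⟨h', h''⟩ | ⟨h', -⟩
      · rcases hne with hne | hne
        · exact hne h'
        · exact hne.ne_empty h''
      · exact hL h')
    refine ⟨fun J hJ e => ?_, fun J hJ e => c1 J hJ (by linarith), fun J hJ e => c2 J hJ (by linarith), fun J e => ?_⟩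
    · by_contra hne
      exact c0 J hJ (Finset.nonempty_iff_ne_empty.mpr hne) e
    · have hsub : QSubrep s ⊤ (insert a (insert b (J.map (Function.Embedding.subtype _)))) := fun i _ => Submodule.mem_top
      rcases h ⊤ _ hsub (by
        rw [QWt, Finset.sum_insert (by simp [hab]), Finset.sum_insert (by simp), Finset.sum_map, finrank_top,
          Module.finrank_fin_fun]
        push_cast; simp; linarith) with ⟨h', -⟩ | ⟨-, h'⟩
      · exact absurd h' top_ne_bot
      · rw [Finset.eq_univ_iff_forall] at h' ⊢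
        intro i
        simpa [i.2.1, i.2.2] using h' i.1
  · rintro ⟨d0, d1, d2, d3⟩ L I hI hw
    rcases qsubrep_cases (θ := θ) hab hind t ht L I hI with ⟨hL, ha, hb, hJ, e⟩ | ⟨hL, e⟩ | ⟨hJ, e⟩ | ⟨hJ, e⟩ | e <;> rw [e] at hw
    · refine Or.inl ⟨hL, Finset.eq_empty_iff_forall_notMem.mpr fun i hi => ?_⟩
      have := d0 _ hJ hw
      have hia : i ≠ a := fun h => ha (h ▸ hi)
      have hib : i ≠ b := fun h => hb (h ▸ hi)
      exact Finset.notMem_empty (⟨i, hia, hib⟩ : Rest a b) (this ▸ Finset.mem_subtype.mpr hi)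
    · have hsum := sum_split (θ := θ) hab I
      have hJle := sum_le_rest hab h0 h2 (I.subtype fun i => i ≠ a ∧ i ≠ b)
      have ha' := h1 a
      have hb' := h1 b
      have ha : a ∈ I := by
        by_contra hc
        rw [if_neg hc] at hsum
        split_ifs at hsum <;> linarith
      have hb : b ∈ I := by
        by_contra hc
        rw [if_neg hc, if_pos ha] at hsum
        linarith
      rw [if_pos ha, if_pos hb] at hsum
      refine Or.inr ⟨hL, Finset.eq_univ_iff_forall.mpr fun i => ?_⟩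
      by_cases hia : i = a
      · exact hia ▸ ha
      by_cases hib : i = b
      · exact hib ▸ hb
      have := d3 _ (by linarith : ∑ j ∈ I.subtype (fun i => i ≠ a ∧ i ≠ b), θ j.1 = 2 - θ a - θ b)
      exact Finset.mem_subtype.mp ((Finset.eq_univ_iff_forall.mp this) ⟨i, hia, hib⟩)
    · exact absurd (by linarith) (d1 _ hJ)
    · exact absurd (by linarith) (d2 _ hJ)
    · linarith [sum_le_rest hab h0 h2 (I.subtype fun i => i ≠ a ∧ i ≠ b)]

end PtQuivRed
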